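import Cfsg.Agent.Lib.Linear.SmallIso.Basic

/-!
PSL_2(5) ≅ A_5 by the action on five quaternion subgroups of SL_2(5).
-/

set_option maxRecDepth 100000

namespace Cfsg.Agent.Lib.Linear.SmallIso

open Matrix

instance fact_prime_five : Fact (Nat.Prime 5) := ⟨by norm_num⟩

/-- The non-central elements of the five quaternion subgroups. -/
def objs5 : Fin 5 → Finset (Matrix (Fin 2) (Fin 2) (ZMod 5)) :=
  ![
    [!![0, 1; 4, 0], !![0, 2; 2, 0], !![0, 3; 3, 0], !![0, 4; 1, 0], !![2, 0; 0, 3], !![3, 0; 0, 2]].toFinset,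
    [!![1, 3; 1, 4], !![2, 0; 2, 3], !![2, 1; 0, 3], !![3, 0; 3, 2], !![3, 4; 0, 2], !![4, 2; 4, 1]].toFinset,
    [!![1, 4; 2, 4], !![2, 0; 4, 3], !![2, 3; 0, 3], !![3, 0; 1, 2], !![3, 2; 0, 2], !![4, 1; 3, 1]].toFinset,
    [!![1, 1; 3, 4], !![2, 0; 1, 3], !![2, 2; 0, 3], !![3, 0; 4, 2], !![3, 3; 0, 2], !![4, 4; 2, 1]].toFinset,
    [!![1, 2; 4, 4], !![2, 0; 3, 3], !![2, 4; 0, 3], !![3, 0; 2, 2], !![3, 1; 0, 2], !![4, 3; 1, 1]].toFinset]

theorem objs5_inj : Function.Injective objs5 := by decide +kernel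

theorem objs5_gen : ∀ (i j : Fin 2), i ≠ j → ∀ a : Fin 5, ∃ b : Fin 5,
    (objs5 a).image (fun m => Matrix.transvection i j (1 : ZMod 5) * m * Matrix.transvection i j (-(1 : ZMod 5))) =
      objs5 b := by decide +kernel

theorem objs5_moved : (objs5 0).image
    (fun m => Matrix.transvection 0 1 (1 : ZMod 5) * m * Matrix.transvection 0 1 (-1)) ≠ objs5 0 := by
  decide +kernel

/-- The isomorphism PSL_2(5) ≅ A_5 over the concrete field. -/
theorem nonempty_objs5_iso :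
    Nonempty (Matrix.ProjectiveSpecialLinearGroup (Fin 2) (ZMod 5) ≃* alternatingGroup (Fin 5)) := by
  have hcard : Fintype.card (ZMod 5) = 5 := ZMod.card 5
  obtain ⟨φ, hφ⟩ := exists_perm_hom (conjMat (F := ZMod 5) (ι := Fin 2)) conjMat_one conjMat_mul
    objs5 objs5_inj _ (closure_transvection_one_zmod 5) (by
      rintro s ⟨i, j, hij, rfl⟩ a
      obtain ⟨b, hb⟩ := objs5_gen i j hij a
      exact ⟨b, by rw [Finset.image_congr (fun x _ => conjMat_transvection hij 1 x)]; exact hb⟩)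
  have : IsSimpleGroup (Matrix.ProjectiveSpecialLinearGroup (Fin 2) (ZMod 5)) :=
    isSimpleGroup_PSL le_rfl (fun _ => by rw [Nat.card_eq_fintype_card, hcard]; norm_num)
  obtain ⟨ψ, hψ, -⟩ := exists_injective_psl φ
    (fun z hz => family_hom_eq_one objs5_inj hφ (conjMat_center hz))
    ⟨Matrix.SpecialLinearGroup.transvection (zero_ne_one' (Fin 2)) 1, fun h => objs5_moved (by
      have h1 := hφ (Matrix.SpecialLinearGroup.transvection (zero_ne_one' (Fin 2)) 1) 0
      rw [h, Finset.image_congr (fun x _ => conjMat_transvection _ _ x)] at h1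
      exact h1)⟩
  refine nonempty_mulEquiv_alternating (by norm_num) ψ hψ ?_
  rw [two_mul_card_PSL_two_of_odd (by rw [hcard]; decide), hcard]
  rfl

/-- PSL_2(5) ≅ A_5. -/
theorem nonempty_psl_two_five {F : Type*} [Field F] [Fintype F] (hF : Fintype.card F = 5) :
    Nonempty (Matrix.ProjectiveSpecialLinearGroup (Fin 2) F ≃* alternatingGroup (Fin 5)) := by
  obtain ⟨e⟩ := nonempty_pslCongr_zmod (F := F) (ι := Fin 2) 5 hF
  obtain ⟨e'⟩ := nonempty_objs5_iso
  exact ⟨e.trans e'⟩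

end Cfsg.Agent.Lib.Linear.SmallIso
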