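import Cfsg.Agent.Lib.Linear.SmallIso.Basic

/-!
PSL_2(9) ≅ A_6 by the adjoint action on six icosahedral subgroups of SL_2(9); trace-zero matrices
are coded by triples over the pairs representing the field with nine elements.
-/

set_option maxRecDepth 100000

namespace Cfsg.Agent.Lib.Linear.SmallIso

open Matrix

instance fact_prime_three : Fact (Nat.Prime 3) := ⟨by norm_num⟩

instance fact_F9 : Fact (∀ r : ZMod 3, r ^ 2 ≠ 2 + 0 * r) := ⟨by decide⟩

/-- The field with nine elements. -/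
abbrev F9 : Type := QuadraticAlgebra (ZMod 3) 2 0

instance fintypeF9 : Fintype F9 :=
  Fintype.ofEquiv _ (QuadraticAlgebra.equivProd (2 : ZMod 3) 0).symm

theorem card_F9 : Fintype.card F9 = 9 := by
  rw [Fintype.ofEquiv_card, Fintype.card_prod, ZMod.card]

/-- A code for an element of the field with nine elements. -/
abbrev Code : Type := ZMod 3 × ZMod 3

/-- Decoding. -/
def dec (x : Code) : F9 := ⟨x.1, x.2⟩

/-- Multiplication of codes. -/
def cmul (x y : Code) : Code := (x.1 * y.1 + 2 * (x.2 * y.2), x.1 * y.2 + x.2 * y.1)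

theorem dec_cmul (x y : Code) : dec (cmul x y) = dec x * dec y := by
  ext <;> simp [dec, cmul] <;> ring

theorem dec_add (x y : Code) : dec (x + y) = dec x + dec y := rfl

theorem dec_neg (x : Code) : dec (-x) = -dec x := rfl

/-- The trace-zero matrix of a triple. -/
def tzMat (v : Code × Code × Code) : Matrix (Fin 2) (Fin 2) F9 :=
  !![dec v.1, dec v.2.1; dec v.2.2, -dec v.1]

theorem tzMat_injective : Function.Injective tzMat := by
  rintro ⟨⟨a, b⟩, ⟨c, d⟩, ⟨e, f⟩⟩ ⟨⟨a', b'⟩, ⟨c', d'⟩, ⟨e', f'⟩⟩ h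
  have h1 := congrFun (congrFun h 0) 0
  have h2 := congrFun (congrFun h 0) 1
  have h3 := congrFun (congrFun h 1) 0
  simp [tzMat, dec, QuadraticAlgebra.ext_iff] at h1 h2 h3
  simp [h1, h2, h3]

/-- Conjugation by `T_01(c)` on triples. -/
def stepU (c : Code) (v : Code × Code × Code) : Code × Code × Code :=
  (v.1 + cmul c v.2.2, v.2.1 + -(cmul c v.1 + cmul c v.1 + cmul c (cmul c v.2.2)), v.2.2)

/-- Conjugation by `T_10(c)` on triples. -/
def stepL (c : Code) (v : Code × Code × Code) : Code × Code × Code :=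
  (v.1 + -cmul c v.2.1, v.2.1, v.2.2 + (cmul c v.1 + cmul c v.1 + -cmul c (cmul c v.2.1)))

theorem tzMat_stepU (c : Code) (v : Code × Code × Code) :
    tzMat (stepU c v) =
      Matrix.transvection 0 1 (dec c) * tzMat v * Matrix.transvection 0 1 (-dec c) := by
  ext i j : 1
  fin_cases i <;> fin_cases j <;>
    simp [tzMat, stepU, dec_add, dec_neg, dec_cmul, Matrix.transvection, Matrix.mul_apply,
      Fin.sum_univ_two] <;> ring

theorem tzMat_stepL (c : Code) (v : Code × Code × Code) :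
    tzMat (stepL c v) =
      Matrix.transvection 1 0 (dec c) * tzMat v * Matrix.transvection 1 0 (-dec c) := by
  ext i j : 1
  fin_cases i <;> fin_cases j <;>
    simp [tzMat, stepL, dec_add, dec_neg, dec_cmul, Matrix.transvection, Matrix.mul_apply,
      Fin.sum_univ_two] <;> ring

/-- Six lists of 30 coded matrices. -/
def codes9 : Fin 6 → List (Code × Code × Code) :=
  ![
    [((0, 0), (1, 1), (1, 2)), ((0, 0), (1, 2), (1, 1)), ((0, 0), (2, 1), (2, 2)), ((0, 0), (2, 2), (2, 1)), ((0, 1), (0, 0), (0, 0)), ((0, 1), (0, 0), (1, 0)), ((0, 1), (0, 0), (2, 0)), ((0, 1), (0, 1), (0, 0)), ((0, 1), (0, 2), (0, 0)), ((0, 2), (0, 0), (0, 0)), ((0, 2), (0, 0), (1, 0)), ((0, 2), (0, 0), (2, 0)), ((0, 2), (0, 1), (0, 0)), ((0, 2), (0, 2), (0, 0)), ((1, 1), (0, 1), (1, 1)), ((1, 1), (0, 2), (2, 2)), ((1, 1), (1, 2), (2, 0)), ((1, 1), (2, 1), (1, 0)), ((1, 2), (0, 1), (2, 1)), ((1, 2), (0, 2), (1, 2)), ((1, 2),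 (1, 1), (2, 0)), ((1, 2), (2, 2), (1, 0)), ((2, 1), (0, 1), (2, 1)), ((2, 1), (0, 2), (1, 2)), ((2, 1), (1, 1), (2, 0)), ((2, 1), (2, 2), (1, 0)), ((2, 2), (0, 1), (1, 1)), ((2, 2), (0, 2), (2, 2)), ((2, 2), (1, 2), (2, 0)), ((2, 2), (2, 1), (1, 0))],
    [((0, 0), (0, 1), (0, 1)), ((0, 0), (0, 2), (0, 2)), ((0, 1), (0, 0), (0, 2)), ((0, 1), (0, 0), (1, 2)), ((0, 1), (0, 0), (2, 2)), ((0, 1), (0, 1), (0, 0)), ((0, 1), (1, 1), (0, 0)), ((0, 1), (2, 1), (0, 0)), ((0, 2), (0, 0), (0, 1)), ((0, 2), (0, 0), (1, 1)), ((0, 2), (0, 0), (2, 1)), ((0, 2), (0, 2), (0, 0)), ((0, 2), (1, 2), (0, 0)), ((0, 2), (2, 2), (0, 0)), ((1, 0), (0, 1), (0, 2)), ((1, 0), (0, 2), (0, 1)), ((1, 0), (1, 1), (2, 1)), ((1, 0), (1, 2), (2, 2)), ((1, 1), (0, 1), (1, 1)), ((1, 1), (2, 2), (0, 2)), ((1, 2), (0, 2), (1, 2)), ((1, 2), (2, 1), (0, 1)), ((2, 0), (0, 1), (0, 2)), ((2, 0), (0, 2), (0, 1)), ((2, 0), (2, 1), (1, 1)), ((2,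 0), (2, 2), (1, 2)), ((2, 1), (0, 1), (2, 1)), ((2, 1), (1, 2), (0, 2)), ((2, 2), (0, 2), (2, 2)), ((2, 2), (1, 1), (0, 1))],
    [((0, 0), (1, 0), (2, 0)), ((0, 0), (2, 0), (1, 0)), ((0, 1), (0, 0), (2, 0)), ((0, 1), (0, 0), (2, 1)), ((0, 1), (0, 0), (2, 2)), ((0, 1), (2, 0), (0, 0)), ((0, 1), (2, 1), (0, 0)), ((0, 1), (2, 2), (0, 0)), ((0, 2), (0, 0), (1, 0)), ((0, 2), (0, 0), (1, 1)), ((0, 2), (0, 0), (1, 2)), ((0, 2), (1, 0), (0, 0)), ((0, 2), (1, 1), (0, 0)), ((0, 2), (1, 2), (0, 0)), ((1, 0), (1, 0), (1, 0)), ((1, 0), (1, 1), (2, 1)), ((1, 0), (2, 0), (2, 0)), ((1, 0), (2, 1), (1, 1)), ((1, 1), (1, 2), (2, 0)), ((1, 1), (2, 0), (1, 2)), ((1, 2), (1, 0), (2, 2)), ((1, 2), (2, 2), (1, 0)), ((2, 0), (1, 0), (1, 0)), ((2, 0), (1, 2), (2, 2)), ((2, 0), (2, 0), (2, 0)), ((2, 0), (2, 2), (1, 2)), ((2, 1), (1, 1), (2, 0)), ((2, 1), (2, 0), (1, 1)), ((2, 2), (1, 0), (2, 1)), ((2, 2), (2, 1), (1, 0))],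
    [((0, 0), (0, 1), (0, 1)), ((0, 0), (0, 2), (0, 2)), ((0, 1), (0, 0), (0, 1)), ((0, 1), (0, 0), (1, 1)), ((0, 1), (0, 0), (2, 1)), ((0, 1), (0, 2), (0, 0)), ((0, 1), (1, 2), (0, 0)), ((0, 1), (2, 2), (0, 0)), ((0, 2), (0, 0), (0, 2)), ((0, 2), (0, 0), (1, 2)), ((0, 2), (0, 0), (2, 2)), ((0, 2), (0, 1), (0, 0)), ((0, 2), (1, 1), (0, 0)), ((0, 2), (2, 1), (0, 0)), ((1, 0), (0, 1), (0, 2)), ((1, 0), (0, 2), (0, 1)), ((1, 0), (2, 1), (1, 1)), ((1, 0), (2, 2), (1, 2)), ((1, 1), (0, 2), (2, 2)), ((1, 1), (1, 1), (0, 1)), ((1, 2), (0, 1), (2, 1)), ((1, 2), (1, 2), (0, 2)), ((2, 0), (0, 1), (0, 2)), ((2, 0), (0, 2), (0, 1)), ((2, 0), (1, 1), (2, 1)), ((2, 0), (1, 2), (2, 2)), ((2, 1), (0, 2), (1, 2)), ((2, 1), (2, 1), (0, 1)), ((2, 2), (0, 1), (1, 1)), ((2, 2), (2, 2), (0, 2))],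
    [((0, 0), (1, 0), (2, 0)), ((0, 0), (2, 0), (1, 0)), ((0, 1), (0, 0), (1, 0)), ((0, 1), (0, 0), (1, 1)), ((0, 1), (0, 0), (1, 2)), ((0, 1), (1, 0), (0, 0)), ((0, 1), (1, 1), (0, 0)), ((0, 1), (1, 2), (0, 0)), ((0, 2), (0, 0), (2, 0)), ((0, 2), (0, 0), (2, 1)), ((0, 2), (0, 0), (2, 2)), ((0, 2), (2, 0), (0, 0)), ((0, 2), (2, 1), (0, 0)), ((0, 2), (2, 2), (0, 0)), ((1, 0), (1, 0), (1, 0)), ((1, 0), (1, 2), (2, 2)), ((1, 0), (2, 0), (2, 0)), ((1, 0), (2, 2), (1, 2)), ((1, 1), (1, 0), (2, 1)), ((1, 1), (2, 1), (1, 0)), ((1, 2), (1, 1), (2, 0)), ((1, 2), (2, 0), (1, 1)), ((2, 0), (1, 0), (1, 0)), ((2, 0), (1, 1), (2, 1)), ((2, 0), (2, 0), (2, 0)), ((2, 0), (2, 1), (1, 1)), ((2, 1), (1, 0), (2, 2)), ((2, 1), (2, 2), (1, 0)), ((2, 2), (1, 2), (2, 0)), ((2, 2), (2, 0), (1, 2))],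
    [((0, 0), (1, 1), (1, 2)), ((0, 0), (1, 2), (1, 1)), ((0, 0), (2, 1), (2, 2)), ((0, 0), (2, 2), (2, 1)), ((0, 1), (0, 0), (0, 0)), ((0, 1), (0, 0), (0, 1)), ((0, 1), (0, 0), (0, 2)), ((0, 1), (1, 0), (0, 0)), ((0, 1), (2, 0), (0, 0)), ((0, 2), (0, 0), (0, 0)), ((0, 2), (0, 0), (0, 1)), ((0, 2), (0, 0), (0, 2)), ((0, 2), (1, 0), (0, 0)), ((0, 2), (2, 0), (0, 0)), ((1, 1), (1, 0), (2, 1)), ((1, 1), (1, 1), (0, 1)), ((1, 1), (2, 0), (1, 2)), ((1, 1), (2, 2), (0, 2)), ((1, 2), (1, 0), (2, 2)), ((1, 2), (1, 2), (0, 2)), ((1, 2), (2, 0), (1, 1)), ((1, 2), (2, 1), (0, 1)), ((2, 1), (1, 0), (2, 2)), ((2, 1), (1, 2), (0, 2)), ((2, 1), (2, 0), (1, 1)), ((2, 1), (2, 1), (0, 1)), ((2, 2), (1, 0), (2, 1)), ((2, 2), (1, 1), (0, 1)), ((2, 2), (2, 0), (1, 2)), ((2, 2), (2, 2), (0, 2))]]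

/-- The six sets of matrices. -/
def objs9 (a : Fin 6) : Finset (Matrix (Fin 2) (Fin 2) F9) := (codes9 a).toFinset.image tzMat

theorem codes9_nodup : ∀ a, (codes9 a).Nodup := by decide +kernel

theorem codes9_length : ∀ a, (codes9 a).length = 30 := by decide +kernel

theorem codes9_inj : ∀ a b : Fin 6, (∀ m ∈ codes9 a, m ∈ codes9 b) → a = b := by decide +kernel

theorem codes9_U1 : ∀ a, ∀ m ∈ codes9 a, stepU (1, 0) m ∈ codes9 ((![0, 3, 2, 5, 4, 1] : Fin 6 → Fin 6) a) := by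
  decide +kernel

theorem codes9_L1 : ∀ a, ∀ m ∈ codes9 a, stepL (1, 0) m ∈ codes9 ((![1, 3, 2, 0, 4, 5] : Fin 6 → Fin 6) a) := by
  decide +kernel

theorem codes9_Ui : ∀ a, ∀ m ∈ codes9 a, stepU (0, 1) m ∈ codes9 ((![2, 1, 4, 3, 0, 5] : Fin 6 → Fin 6) a) := by
  decide +kernel

theorem codes9_Li : ∀ a, ∀ m ∈ codes9 a, stepL (0, 1) m ∈ codes9 ((![0, 1, 5, 3, 2, 4] : Fin 6 → Fin 6) a) := by
  decide +kernel

theorem objs9_card (a : Fin 6) : (objs9 a).card = 30 := by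
  rw [objs9, Finset.card_image_of_injective _ tzMat_injective,
    List.toFinset_card_of_nodup (codes9_nodup a), codes9_length]

theorem objs9_inj : Function.Injective objs9 := by
  intro a b h
  refine codes9_inj a b fun m hm => ?_
  have h' := Finset.image_injective tzMat_injective h
  exact List.mem_toFinset.mp (h' ▸ List.mem_toFinset.mpr hm)

theorem image_eq_of_step {f : Code × Code × Code → Code × Code × Code}
    {g : Matrix (Fin 2) (Fin 2) F9 → Matrix (Fin 2) (Fin 2) F9} (hg : Function.Injective g)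
    (hfg : ∀ v, g (tzMat v) = tzMat (f v)) {a b : Fin 6}
    (h : ∀ m ∈ codes9 a, f m ∈ codes9 b) : (objs9 a).image g = objs9 b := by
  refine Finset.eq_of_subset_of_card_le ?_ (le_of_eq ?_)
  · intro x hx
    simp only [objs9, Finset.mem_image, List.mem_toFinset] at hx ⊢
    obtain ⟨_, ⟨m, hm, rfl⟩, rfl⟩ := hx
    exact ⟨f m, h m hm, (hfg m).symm⟩
  · rw [Finset.card_image_of_injective _ hg, objs9_card, objs9_card]

theorem conjMat_injective (g : Matrix.SpecialLinearGroup (Fin 2) F9) :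
    Function.Injective (conjMat g) := fun x y h => by
  have := congrArg (conjMat g⁻¹) h
  rwa [← conjMat_mul, ← conjMat_mul, inv_mul_cancel, conjMat_one, conjMat_one] at this

theorem conjMat_tz_U (c : Code) (v : Code × Code × Code) :
    conjMat (Matrix.SpecialLinearGroup.transvection (zero_ne_one' (Fin 2)) (dec c)) (tzMat v) =
      tzMat (stepU c v) := by
  rw [conjMat_transvection, tzMat_stepU]

theorem conjMat_tz_L (c : Code) (v : Code × Code × Code) :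
    conjMat (Matrix.SpecialLinearGroup.transvection (zero_ne_one' (Fin 2)).symm (dec c)) (tzMat v) =
      tzMat (stepL c v) := by
  rw [conjMat_transvection, tzMat_stepL]

/-- The field with nine elements is spanned by 1 and i. -/
theorem closure_transvection_F9 : Subgroup.closure
    {g : Matrix.SpecialLinearGroup (Fin 2) F9 | ∃ (i j : Fin 2) (h : i ≠ j) (c : Code),
      (c = (1, 0) ∨ c = (0, 1)) ∧ Matrix.SpecialLinearGroup.transvection h (dec c) = g} = ⊤ := by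
  refine sl_eq_top_of_transvection_mem _ fun i j h c => ?_
  have key : ∀ (d : F9) (n : ℕ), Matrix.SpecialLinearGroup.transvection h (n • d) =
      (Matrix.SpecialLinearGroup.transvection h d) ^ n := fun d n => by
    induction n with
    | zero => simp
    | succ n ih => rw [succ_nsmul, Matrix.SpecialLinearGroup.transvection_add, ih, pow_succ]
  have hc : c = c.re.val • dec (1, 0) + c.im.val • dec (0, 1) := by
    ext <;> simp [dec, ZMod.natCast_zmod_val]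
  rw [hc, Matrix.SpecialLinearGroup.transvection_add, key, key]
  refine Subgroup.mul_mem _ (Subgroup.pow_mem _ (Subgroup.subset_closure ?_) _)
    (Subgroup.pow_mem _ (Subgroup.subset_closure ?_) _)
  · exact ⟨i, j, h, (1, 0), Or.inl rfl, rfl⟩
  · exact ⟨i, j, h, (0, 1), Or.inr rfl, rfl⟩

theorem objs9_gen : ∀ s ∈ {g : Matrix.SpecialLinearGroup (Fin 2) F9 |
    ∃ (i j : Fin 2) (h : i ≠ j) (c : Code),
      (c = (1, 0) ∨ c = (0, 1)) ∧ Matrix.SpecialLinearGroup.transvection h (dec c) = g},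
    ∀ a, ∃ b, (objs9 a).image (conjMat s) = objs9 b := by
  rintro s ⟨i, j, hij, c, hc, rfl⟩ a
  match i, j, hij with
  | 0, 0, hij => exact absurd rfl hij
  | 1, 1, hij => exact absurd rfl hij
  | 0, 1, _ =>
    rcases hc with rfl | rfl
    · exact ⟨_, image_eq_of_step (conjMat_injective _) (conjMat_tz_U _) (codes9_U1 a)⟩
    · exact ⟨_, image_eq_of_step (conjMat_injective _) (conjMat_tz_U _) (codes9_Ui a)⟩
  | 1, 0, _ =>
    rcases hc with rfl | rfl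
    · exact ⟨_, image_eq_of_step (conjMat_injective _) (conjMat_tz_L _) (codes9_L1 a)⟩
    · exact ⟨_, image_eq_of_step (conjMat_injective _) (conjMat_tz_L _) (codes9_Li a)⟩

/-- PSL_2(9) ≅ A_6. -/
theorem nonempty_psl_two_nine {F : Type*} [Field F] [Fintype F] (hF : Fintype.card F = 9) :
    Nonempty (Matrix.ProjectiveSpecialLinearGroup (Fin 2) F ≃* alternatingGroup (Fin 6)) := by
  obtain ⟨e⟩ := nonempty_pslCongr (ι := Fin 2)
    (FiniteField.ringEquivOfCardEq (K := F) (K' := F9) (hF.trans card_F9.symm))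
  obtain ⟨φ, hφ⟩ := exists_perm_hom (conjMat (F := F9) (ι := Fin 2)) conjMat_one conjMat_mul
    objs9 objs9_inj _ closure_transvection_F9 objs9_gen
  have : IsSimpleGroup (Matrix.ProjectiveSpecialLinearGroup (Fin 2) F9) :=
    isSimpleGroup_PSL le_rfl (fun _ => by rw [Nat.card_eq_fintype_card, card_F9]; norm_num)
  obtain ⟨ψ, hψ, -⟩ := exists_injective_psl φ
    (fun z hz => family_hom_eq_one objs9_inj hφ (conjMat_center hz))
    ⟨Matrix.SpecialLinearGroup.transvection (zero_ne_one' (Fin 2)) (dec (1, 0)), fun h => by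
      have h1 := hφ (Matrix.SpecialLinearGroup.transvection (zero_ne_one' (Fin 2)) (dec (1, 0))) 1
      rw [h, image_eq_of_step (conjMat_injective _) (conjMat_tz_U _) (codes9_U1 1)] at h1
      exact absurd (objs9_inj h1) (by decide)⟩
  obtain ⟨e'⟩ := nonempty_mulEquiv_alternating (by norm_num) ψ hψ (by
    rw [two_mul_card_PSL_two_of_odd (by rw [card_F9]; decide), card_F9]
    rfl)
  exact ⟨e.trans e'⟩

end Cfsg.Agent.Lib.Linear.SmallIso
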