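import Cfsg.Agent.Lib.Linear.SmallIso.Basic

/-!
PSL_2(7) ≅ PSL_3(2) by the action on seven quaternion subgroups of SL_2(7).
-/

set_option maxRecDepth 100000

namespace Cfsg.Agent.Lib.Linear.SmallIso

open Matrix

instance fact_prime_seven : Fact (Nat.Prime 7) := ⟨by norm_num⟩

/-- Seven quaternion subgroups of SL_2(7), indexed by code of a vector of F_2^3. -/
def table7 : Fin 8 → Finset (Matrix (Fin 2) (Fin 2) (ZMod 7)) :=
  ![
    ∅,
    [!![0, 3; 2, 0], !![0, 4; 5, 0], !![2, 5; 6, 5], !![3, 6; 3, 4], !![4, 1; 4, 3], !![5, 2; 1, 2]].toFinset,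
    [!![1, 2; 6, 6], !![1, 3; 4, 6], !![2, 1; 2, 5], !![5, 6; 5, 2], !![6, 4; 3, 1], !![6, 5; 1, 1]].toFinset,
    [!![1, 1; 5, 6], !![1, 5; 1, 6], !![2, 4; 4, 5], !![5, 3; 3, 2], !![6, 2; 6, 1], !![6, 6; 2, 1]].toFinset,
    [!![3, 1; 4, 4], !![3, 2; 2, 4], !![3, 4; 1, 4], !![4, 3; 6, 3], !![4, 5; 5, 3], !![4, 6; 3, 3]].toFinset,
    [!![1, 4; 3, 6], !![1, 6; 2, 6], !![2, 2; 1, 5], !![5, 5; 6, 2], !![6, 1; 5, 1], !![6, 3; 4, 1]].toFinset,
    [!![0, 2; 3, 0], !![0, 5; 4, 0], !![2, 6; 5, 5], !![3, 3; 6, 4], !![4, 4; 1, 3], !![5, 1; 2, 2]].toFinset,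
    [!![0, 1; 6, 0], !![0, 6; 1, 0], !![2, 3; 3, 5], !![3, 5; 5, 4], !![4, 2; 2, 3], !![5, 4; 4, 2]].toFinset]

/-- The family indexed by vectors (zero gets the empty set). -/
def objs7 (v : Fin 3 → ZMod 2) : Finset (Matrix (Fin 2) (Fin 2) (ZMod 7)) :=
  table7 ⟨4 * (v 0).val + 2 * (v 1).val + (v 2).val, by
    have h0 := ZMod.val_lt (v 0); have h1 := ZMod.val_lt (v 1); have h2 := ZMod.val_lt (v 2)
    omega⟩

theorem objs7_inj : Function.Injective objs7 := by decide +kernel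

/-- The linear map matching `T_01(1)`. -/
def matA : Matrix.SpecialLinearGroup (Fin 3) (ZMod 2) := ⟨!![1, 1, 0; 1, 1, 1; 0, 1, 0], by decide +kernel⟩

/-- The linear map matching `T_10(1)`. -/
def matB : Matrix.SpecialLinearGroup (Fin 3) (ZMod 2) := ⟨!![0, 0, 1; 1, 1, 0; 0, 1, 0], by decide +kernel⟩

theorem objs7_genA : ∀ v, (objs7 v).image
    (fun m => Matrix.transvection 0 1 (1 : ZMod 7) * m * Matrix.transvection 0 1 (-1)) =
      objs7 ((matA : Matrix (Fin 3) (Fin 3) (ZMod 2)) *ᵥ v) := by decide +kernel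

theorem objs7_genB : ∀ v, (objs7 v).image
    (fun m => Matrix.transvection 1 0 (1 : ZMod 7) * m * Matrix.transvection 1 0 (-1)) =
      objs7 ((matB : Matrix (Fin 3) (Fin 3) (ZMod 2)) *ᵥ v) := by decide +kernel

/-- PSL_2(7) ≅ PSL_3(2) over ZMod. -/
theorem nonempty_objs7_iso :
    Nonempty (Matrix.ProjectiveSpecialLinearGroup (Fin 2) (ZMod 7) ≃*
      Matrix.ProjectiveSpecialLinearGroup (Fin 3) (ZMod 2)) := by
  have : FaithfulSMul (Matrix.SpecialLinearGroup (Fin 3) (ZMod 2)) (Fin 3 → ZMod 2) :=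
    ⟨fun h => sl_ext_single fun k => h _⟩
  obtain ⟨φ, hφ⟩ := exists_family_hom (K := Matrix.SpecialLinearGroup (Fin 3) (ZMod 2))
    (conjMat (F := ZMod 7) (ι := Fin 2)) conjMat_one conjMat_mul objs7 objs7_inj _
    (closure_transvection_one_zmod 7) (by
      rintro s ⟨i, j, hij, rfl⟩
      match i, j, hij with
      | 0, 0, hij => exact absurd rfl hij
      | 1, 1, hij => exact absurd rfl hij
      | 0, 1, hij =>
        refine ⟨matA, fun v => ?_⟩
        rw [Finset.image_congr (fun x _ => conjMat_transvection hij 1 x)]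
        exact objs7_genA v
      | 1, 0, hij =>
        refine ⟨matB, fun v => ?_⟩
        rw [Finset.image_congr (fun x _ => conjMat_transvection hij 1 x)]
        exact objs7_genB v)
  have : IsSimpleGroup (Matrix.ProjectiveSpecialLinearGroup (Fin 2) (ZMod 7)) :=
    isSimpleGroup_PSL le_rfl (fun _ => by rw [Nat.card_eq_fintype_card, ZMod.card]; norm_num)
  obtain ⟨ψ, hψ, -⟩ := exists_injective_psl φ
    (fun z hz => family_hom_eq_one objs7_inj hφ (conjMat_center hz))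
    ⟨Matrix.SpecialLinearGroup.transvection (zero_ne_one' (Fin 2)) 1, fun h => by
      have hA : matA = φ (Matrix.SpecialLinearGroup.transvection (zero_ne_one' (Fin 2)) 1) := by
        refine sl_ext_single fun k => objs7_inj ?_
        rw [← hφ, Finset.image_congr (fun x _ => conjMat_transvection _ _ x)]
        exact (objs7_genA _).symm
      rw [h] at hA
      exact absurd (congrArg Subtype.val hA) (by decide +kernel)⟩
  have hc : Nat.card (Subgroup.center (Matrix.SpecialLinearGroup (Fin 3) (ZMod 2))) = 1 := by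
    rw [card_center_SL, Fintype.card_fin, Nat.card_zmod]; rfl
  have hker : Subgroup.center (Matrix.SpecialLinearGroup (Fin 3) (ZMod 2)) = ⊥ :=
    Subgroup.eq_bot_of_card_eq _ hc
  have hmk : Function.Injective (QuotientGroup.mk'
      (Subgroup.center (Matrix.SpecialLinearGroup (Fin 3) (ZMod 2)))) := by
    rw [← MonoidHom.ker_eq_bot_iff, QuotientGroup.ker_mk', hker]
  refine ⟨MulEquiv.ofBijective ((QuotientGroup.mk' _).comp ψ)
    ((Nat.bijective_iff_injective_and_card _).mpr ⟨hmk.comp hψ, ?_⟩)⟩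
  have h7 := two_mul_card_PSL_two_of_odd (F := ZMod 7) (by rw [ZMod.card]; decide)
  have h2 := sub_one_mul_card_SL (F := ZMod 2) 3 (by norm_num)
  have h3 := card_SL_eq_gcd_mul_card_PSL (ι := Fin 3) (F := ZMod 2)
  rw [ZMod.card] at h7 h2
  rw [Fintype.card_fin, Nat.card_zmod] at h3
  rw [Fin.prod_univ_three] at h2
  norm_num at h2 h3 h7 ⊢
  omega

/-- PSL_2(7) ≅ PSL_3(2). -/
theorem nonempty_psl_two_seven {F K : Type*} [Field F] [Fintype F] [Field K] [Fintype K]
    (hF : Fintype.card F = 7) (hK : Fintype.card K = 2) :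
    Nonempty (Matrix.ProjectiveSpecialLinearGroup (Fin 2) F ≃*
      Matrix.ProjectiveSpecialLinearGroup (Fin 3) K) := by
  obtain ⟨e⟩ := nonempty_pslCongr_zmod (F := F) (ι := Fin 2) 7 hF
  obtain ⟨e'⟩ := nonempty_objs7_iso
  have : Fact (Nat.Prime 2) := ⟨Nat.prime_two⟩
  obtain ⟨e''⟩ := nonempty_pslCongr_zmod (F := K) (ι := Fin 3) 2 hK
  exact ⟨(e.trans e').trans e''.symm⟩

end Cfsg.Agent.Lib.Linear.SmallIso
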