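import Cfsg.Agent.Lib.Linear.FamilyHom
import Cfsg.Agent.Lib.Linear.ProjLine

/-!
Permutation version of the family construction.
-/

namespace Cfsg.Agent.Lib.Linear.SmallIso

variable {G β : Type*} [Group G] [DecidableEq β] {k : ℕ}

/-- Generators permuting a family of `k` sets give a homomorphism to `Perm (Fin k)`. -/
theorem exists_perm_hom (act : G → β → β) (hone : ∀ x, act 1 x = x)
    (hmul : ∀ g h x, act (g * h) x = act g (act h x)) (objs : Fin k → Finset β)
    (hinj : Function.Injective objs) (S : Set G) (hS : Subgroup.closure S = ⊤)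
    (h : ∀ s ∈ S, ∀ i, ∃ j, (objs i).image (act s) = objs j) :
    ∃ φ : G →* Equiv.Perm (Fin k), ∀ g i, (objs i).image (act g) = objs (φ g i) := by
  have hact : ∀ g, Function.Injective (act g) := fun g x y hxy => by
    have := congrArg (act g⁻¹) hxy
    rwa [← hmul, ← hmul, inv_mul_cancel, hone, hone] at this
  refine Cfsg.Agent.Lib.Linear.exists_family_hom act hone hmul objs hinj S hS fun s hs => ?_
  choose f hf using h s hs
  have hf' : Function.Injective f := fun a b hab =>
    hinj (Finset.image_injective (hact s) (by rw [hf a, hf b, hab]))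
  exact ⟨Equiv.ofBijective f ⟨hf', Finite.surjective_of_injective hf'⟩, hf⟩

end Cfsg.Agent.Lib.Linear.SmallIso
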