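import Cfsg.Agent.Lib.Linear.SmallIso.Basic
import Cfsg.Agent.Lib.Symplectic.Std

/-!
Sp_4(2) ≅ S_6 by the action on six ovoids.
-/

set_option maxRecDepth 100000

namespace Cfsg.Agent.Lib.Linear.SmallIso

open Matrix

/-- Six sets of five pairwise non-orthogonal vectors. -/
def objsSp : Fin 6 → Finset (Fin 2 ⊕ Fin 2 → ZMod 2) :=
  ![
    [Sum.elim ![0, 0] ![0, 1], Sum.elim ![0, 1] ![0, 0], Sum.elim ![0, 1] ![1, 1], Sum.elim ![1, 1] ![0, 1], Sum.elim ![1, 1] ![1, 1]].toFinset,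
    [Sum.elim ![0, 0] ![0, 1], Sum.elim ![0, 1] ![0, 1], Sum.elim ![0, 1] ![1, 0], Sum.elim ![1, 1] ![0, 0], Sum.elim ![1, 1] ![1, 0]].toFinset,
    [Sum.elim ![0, 0] ![1, 0], Sum.elim ![1, 0] ![0, 0], Sum.elim ![1, 0] ![1, 1], Sum.elim ![1, 1] ![1, 0], Sum.elim ![1, 1] ![1, 1]].toFinset,
    [Sum.elim ![0, 0] ![1, 0], Sum.elim ![1, 0] ![0, 1], Sum.elim ![1, 0] ![1, 0], Sum.elim ![1, 1] ![0, 0], Sum.elim ![1, 1] ![0, 1]].toFinset,
    [Sum.elim ![0, 0] ![1, 1], Sum.elim ![0, 1] ![0, 0], Sum.elim ![0, 1] ![0, 1], Sum.elim ![1, 0] ![0, 1], Sum.elim ![1, 0] ![1, 1]].toFinset,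
    [Sum.elim ![0, 0] ![1, 1], Sum.elim ![0, 1] ![1, 0], Sum.elim ![0, 1] ![1, 1], Sum.elim ![1, 0] ![0, 0], Sum.elim ![1, 0] ![1, 0]].toFinset]

theorem objsSp_inj : Function.Injective objsSp := by decide +kernel

theorem objsSp_gen : ∀ (w : Fin 2 ⊕ Fin 2 → ZMod 2) (c : ZMod 2) (a : Fin 6), ∃ b : Fin 6,
    (objsSp a).image (fun v => Cfsg.sympTransvection 2 w c *ᵥ v) = objsSp b := by decide +kernel

theorem objsSp_sep : ∀ v : Fin 2 ⊕ Fin 2 → ZMod 2, v ≠ 0 →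
    ∃ a b, objsSp a ∩ objsSp b = {v} := by decide +kernel

/-- Sp_4(2) ≅ S_6. -/
theorem nonempty_sp_four_two :
    Nonempty (Matrix.symplecticGroup (Fin 2) (ZMod 2) ≃* Equiv.Perm (Fin 6)) := by
  have : Fact (Nat.Prime 2) := ⟨Nat.prime_two⟩
  obtain ⟨φ, hφ⟩ := exists_perm_hom
    (fun (g : Matrix.symplecticGroup (Fin 2) (ZMod 2)) v =>
      (g : Matrix (Fin 2 ⊕ Fin 2) (Fin 2 ⊕ Fin 2) (ZMod 2)) *ᵥ v)
    (fun x => Matrix.one_mulVec x) (fun g h x => (Matrix.mulVec_mulVec _ _ _).symm)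
    objsSp objsSp_inj _ (Cfsg.Agent.Lib.Symplectic.closure_sympTransvection_eq_top) (by
      rintro s ⟨w, c, hs⟩ a
      obtain ⟨b, hb⟩ := objsSp_gen w c a
      refine ⟨b, ?_⟩
      simp only [hs]
      exact hb)
  have hinj : Function.Injective φ := by
    intro g h hgh
    apply Subtype.ext
    refine Matrix.mulVec_injective (funext fun v => ?_)
    rcases eq_or_ne v 0 with rfl | hv
    · rw [Matrix.mulVec_zero, Matrix.mulVec_zero]
    · obtain ⟨a, b, hab⟩ := objsSp_sep v hv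
      have hg : ∀ k : Matrix.symplecticGroup (Fin 2) (ZMod 2), ({
          (k : Matrix (Fin 2 ⊕ Fin 2) (Fin 2 ⊕ Fin 2) (ZMod 2)) *ᵥ v} : Finset _) =
          objsSp (φ k a) ∩ objsSp (φ k b) := fun k => by
        rw [← hφ, ← hφ, ← Finset.image_inter _ _ ?_, hab, Finset.image_singleton]
        intro x y hxy
        have := congrArg (fun z => ((k⁻¹ : Matrix.symplecticGroup (Fin 2) (ZMod 2)) :
          Matrix (Fin 2 ⊕ Fin 2) (Fin 2 ⊕ Fin 2) (ZMod 2)) *ᵥ z) hxy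
        simpa [Matrix.mulVec_mulVec, ← Submonoid.coe_mul] using this
      exact Finset.singleton_injective ((hg g).trans ((by rw [hgh] :
        objsSp (φ g a) ∩ objsSp (φ g b) = _).trans (hg h).symm))
  refine ⟨MulEquiv.ofBijective φ ((Nat.bijective_iff_injective_and_card _).mpr ⟨hinj, ?_⟩)⟩
  rw [Cfsg.Agent.Lib.Symplectic.card_sp (Nat.card_zmod 2) 2, Nat.card_perm, Nat.card_fin]
  rfl

end Cfsg.Agent.Lib.Linear.SmallIso
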